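import Groth.Agent.GIT36.Mu.Main
import Groth.Agent.GIT36.LinUnique
import Groth.Agent.AlgGrp33.IsogSub
import Groth.Agent.AlgGrp79.SepDense
import Mathlib.Algebra.Module.Injective
import Mathlib.Algebra.Category.Grp.Injective
import Mathlib.Algebra.Order.BigOperators.Group.Finset
import Mathlib.Analysis.Real.Sqrt

/-!
An additive function on the one-parameter subgroups of a torus is bounded by a multiple of any inner product norm.
-/

set_option autoImplicit false
set_option backward.isDefEq.respectTransparency.types false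
set_option linter.style.haveILetI false

universe u

open CategoryTheory CategoryTheory.Limits MonoidalCategory CartesianMonoidalCategory MonObj AlgebraicGeometry
  Opposite Groth.Agent.FinSub96

noncomputable section

namespace Groth.Agent.GIT36.OnePS

open Groth.Agent.GIT36.Mu

section Lattice

variable {M : Type*} [AddCommGroup M] {b : M → M → ℚ}

theorem exists_bound_sq_le [Module.Finite ℤ M] (hadd : ∀ x y z, b (x + y) z = b x z + b y z)
    (hsymm : ∀ x y, b x y = b y x) (hpos : ∀ x, x ≠ 0 → 0 < b x x) (L : M →+ ℚ) :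
    ∃ K : ℝ, 0 ≤ K ∧ ∀ x, |(L x : ℝ)| ≤ K * Real.sqrt ((b x x : ℚ) : ℝ) := by
  classical
  obtain ⟨S, hS⟩ := Module.Finite.fg_top (R := ℤ) (M := M)
  let bh : M → M →+ ℚ := fun z => AddMonoidHom.mk' (fun x => b x z) fun x y => hadd x y z
  let φ : M →+ (S → ℚ) := AddMonoidHom.mk' (fun x e => b x e.1) fun x y => funext fun e => hadd x y e.1
  have hinj : Function.Injective φ := by
    rw [injective_iff_map_eq_zero]
    intro x hx
    by_contra hne
    have h0 : ∀ y, b x y = 0 := by
      intro y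
      have hy : y ∈ Submodule.span ℤ (S : Set M) := by rw [hS]; trivial
      rw [hsymm]
      induction hy using Submodule.span_induction with
      | mem y hy => rw [hsymm]; exact congrFun hx ⟨y, hy⟩
      | zero => exact map_zero (bh x)
      | add y z _ _ h₁ h₂ => rw [hadd, h₁, h₂, _root_.add_zero]
      | smul n y _ h =>
        have := map_zsmul (bh x) n y
        rw [show bh x y = b y x from rfl, h, smul_zero] at this
        exact this
    exact (hpos x hne).ne' (h0 x)
  obtain ⟨ψ, hψ⟩ := (Module.Baer.of_divisible ℚ).extension_property_addMonoidHom φ hinj L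
  let c : S → ℚ := fun e => ψ (Pi.single e 1)
  have hL : ∀ x, L x = ∑ e : S, b x e.1 * c e := by
    intro x
    rw [← hψ]
    show ψ.toRatLinearMap (φ x) = _
    conv_lhs => rw [← Finset.univ_sum_single (φ x)]
    rw [map_sum]
    refine Finset.sum_congr rfl fun e _ => ?_
    rw [show (Pi.single e (φ x e) : S → ℚ) = b x e.1 • Pi.single e (1 : ℚ) by
      rw [← Pi.single_smul, smul_eq_mul, _root_.mul_one]; rfl, map_smul, smul_eq_mul]
    rfl
  have hnn : ∀ x, 0 ≤ b x x := fun x => by
    by_cases hx : x = 0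
    · subst hx; exact (map_zero (bh 0)).ge
    · exact (hpos x hx).le
  have hcs : ∀ x y, b x y ^ 2 ≤ b x x * b y y := by
    intro x y
    by_cases hy : y = 0
    · subst hy
      rw [hsymm x 0, show b 0 x = 0 from map_zero (bh x), show b 0 0 = 0 from map_zero (bh 0)]
      simp
    have hbyy := hpos y hy
    let p : ℤ := (b y y).num * (b x y).den
    let q : ℤ := (b x y).num * (b y y).den
    have hsm : ∀ (n : ℤ) (u v : M), b (n • u) v = n * b u v := fun n u v => by
      have := map_zsmul (bh v) n u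
      rw [zsmul_eq_mul] at this
      exact this
    have h := hnn (p • x - q • y)
    have hsub : ∀ u v w, b (u - v) w = b u w - b v w := fun u v w => map_sub (bh w) u v
    rw [hsub, hsymm (p • x), hsymm (q • y), hsub, hsub, hsm, hsm, hsm, hsm, hsymm x (p • x), hsymm y (p • x),
      hsymm x (q • y), hsymm y (q • y), hsm, hsm, hsm, hsm, hsymm y x] at h
    have hq : (q : ℚ) * b y y = p * b x y := by
      simp only [p, q]
      push_cast
      rw [← Rat.mul_den_eq_num (b x y), ← Rat.mul_den_eq_num (b y y)]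
      ring
    have hp : (0 : ℚ) < p := by
      simp only [p]
      push_cast
      have := Rat.num_pos.2 hbyy
      positivity
    have hp2 : (0 : ℚ) < (p : ℚ) ^ 2 := by positivity
    have hident : (p : ℚ) ^ 2 * (b x x * b y y - b x y ^ 2) =
        b y y * ((p : ℚ) * (p * b x x) - q * (p * b x y) - ((p : ℚ) * (q * b x y) - q * (q * b y y))) := by
      linear_combination ((p : ℚ) * b x y - q * b y y) * hq
    have h2 : 0 ≤ (p : ℚ) ^ 2 * (b x x * b y y - b x y ^ 2) := by
      rw [hident]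
      exact mul_nonneg hbyy.le (by linarith)
    have := nonneg_of_mul_nonneg_right h2 hp2
    linarith
  refine ⟨∑ e : S, |(c e : ℝ)| * Real.sqrt ((b e.1 e.1 : ℚ) : ℝ), by positivity, fun x => ?_⟩
  rw [hL, Rat.cast_sum, Finset.sum_mul]
  refine (Finset.abs_sum_le_sum_abs _ _).trans (Finset.sum_le_sum fun e _ => ?_)
  push_cast
  rw [abs_mul, mul_comm |((b x e.1 : ℚ) : ℝ)|, _root_.mul_assoc, ← Real.sqrt_mul (by exact_mod_cast hnn e.1)]
  refine mul_le_mul_of_nonneg_left ?_ (abs_nonneg _)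
  refine Real.le_sqrt_of_sq_le ?_
  rw [sq_abs, mul_comm]
  exact_mod_cast hcs x e.1

end Lattice

variable {k : Type u} [Field k] [IsAlgClosed k] {T : Over (Spec (CommRingCat.of k))} [GrpObj T]

theorem isMonHom_mul [IsCommMonObj T] {Z : Over (St k)} [GrpObj Z] (l₁ l₂ : Z ⟶ T) [IsMonHom l₁] [IsMonHom l₂] :
    IsMonHom (l₁ * l₂) :=
  AlgGrp79.isMonHom_of_forall _ fun X s t => by
    simp only [MonObj.comp_mul, MonObj.mul_comp]
    exact mul_mul_mul_comm _ _ _ _

theorem isMonHom_inv [IsCommMonObj T] {Z : Over (St k)} [GrpObj Z] (l : Z ⟶ T) [IsMonHom l] :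
    IsMonHom l⁻¹ :=
  AlgGrp79.isMonHom_of_forall _ fun X s t => by
    simp only [GrpObj.comp_inv, MonObj.mul_comp]
    exact _root_.mul_inv _ _

/-- The one-parameter subgroups of a commutative group. -/
def cochar (T : Over (St k)) [GrpObj T] [IsCommMonObj T] : Subgroup (Red.Gm (St k) ⟶ T) where
  carrier := {l | IsMonHom l}
  one_mem' := by
    show IsMonHom (1 : Red.Gm (St k) ⟶ T)
    exact AlgGrp79.isMonHom_of_forall _ fun X s t => by simp only [MonObj.comp_one, _root_.one_mul]
  mul_mem' := fun {a b} ha hb => by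
    haveI : IsMonHom a := ha
    haveI : IsMonHom b := hb
    exact isMonHom_mul a b
  inv_mem' := fun {a} ha => by
    haveI : IsMonHom a := ha
    exact isMonHom_inv a

theorem gpt_surjective (p : Pt k ⟶ Red.Gm (St k)) : ∃ u : kˣ, gpt u = p := by
  refine ⟨Units.map (Scheme.ΓSpecIso (CommRingCat.of k)).hom.hom.toMonoidHom (GmPts.unitOfPt p),
    RedPts82.gmFn_injective ?_⟩
  rw [gpt_fn]
  exact Iso.hom_inv_id_apply (Scheme.ΓSpecIso (CommRingCat.of k)) _

theorem finite_cochar [IsCommMonObj T] (hT : Red.IsTorus T) :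
    Module.Finite ℤ (Additive (cochar T)) := by
  classical
  obtain ⟨_, _, _, _, _⟩ := AlgGrp33.IsogSub.torus_props hT
  haveI := isAffine_of_isTorus hT
  have hft : Algebra.FiniteType k Γ(T.left, ⊤) := by
    have h : T.hom.appTop.hom.FiniteType :=
      (HasRingHomProperty.iff_of_isAffine (P := @LocallyOfFiniteType)).1 (inferInstanceAs (LocallyOfFiniteType T.hom))
    exact (h.comp (RingHom.FiniteType.of_surjective _
      (Scheme.ΓSpecIso (CommRingCat.of k)).symm.commRingCatIsoToRingEquiv.surjective) :)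
  obtain ⟨gs, hgs⟩ := hft.out
  have hmem : ∀ g : Γ(T.left, ⊤), g ∈ Submodule.span k {c : Γ(T.left, ⊤) | IsCharFn c} := fun g => by
    rw [span_charFn_eq_top hT]; trivial
  choose Λ₀ hΛ₀ hsp using fun g => Submodule.mem_span_finite_of_mem_span (hmem g)
  let Λ := gs.biUnion Λ₀
  have hΛ : ∀ c ∈ Λ, IsCharFn c := fun c hc => by
    obtain ⟨g, -, hc⟩ := Finset.mem_biUnion.1 hc
    exact hΛ₀ g hc
  let E : Additive (cochar T) →+ ({c // c ∈ Λ} → ℤ) :=
    AddMonoidHom.mk' (fun l c => expo (hΛ c.1 c.2).hom (Additive.toMul l).1) fun l₁ l₂ => funext fun c => by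
      haveI : IsMonHom (Additive.toMul l₁).1 := (Additive.toMul l₁).2
      haveI : IsMonHom (Additive.toMul l₂).1 := (Additive.toMul l₂).2
      exact expo_mul ((hΛ c.1 c.2).exists_expo (Additive.toMul l₁).1)
        ((hΛ c.1 c.2).exists_expo (Additive.toMul l₂).1)
  refine Module.Finite.of_injective E.toIntLinearMap fun l₁ l₂ he => ?_
  haveI : IsMonHom (Additive.toMul l₁).1 := (Additive.toMul l₁).2
  haveI : IsMonHom (Additive.toMul l₂).1 := (Additive.toMul l₂).2
  haveI : IsAffine (Pt k).left := inferInstanceAs (IsAffine (Spec (CommRingCat.of k)))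
  haveI : IsAffineHom (toUnit T).left := isAffineHom_of_isAffine _
  haveI : Smooth (Red.Gm (St k)).hom := (AlgGrp33.IsogSub.torus_props (GMod80.isTorus_Gm _)).1
  haveI : IsReduced (Red.Gm (St k)).left := AlgGrp79.isReduced_of_smooth (Red.Gm (St k)).hom
  refine Additive.toMul.injective (Subtype.ext ?_)
  refine LinUnique.eq_of_kPts (π := toUnit T) (toUnit_unique _ _) fun p => ?_
  obtain ⟨e⟩ := AlgGrp79.kPt_iso (k := k)
  obtain ⟨u, hu⟩ := gpt_surjective (k := k) (e.inv ≫ p)
  rw [← cancel_epi e.inv, ← Category.assoc, ← Category.assoc, ← hu]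
  have hval : ∀ s, gv (gpt u ≫ (Additive.toMul l₁).1) s = gv (gpt u ≫ (Additive.toMul l₂).1) s := by
    intro s
    have hs : s ∈ Algebra.adjoin k (gs : Set Γ(T.left, ⊤)) := by rw [hgs]; trivial
    induction hs using Algebra.adjoin_induction with
    | mem g hg =>
      have hs2 : g ∈ Submodule.span k (Λ : Set Γ(T.left, ⊤)) :=
        Submodule.span_mono (fun c hc => Finset.mem_coe.2 (Finset.mem_biUnion.2 ⟨g, hg, hc⟩)) (hsp g)
      clear hg
      induction hs2 using Submodule.span_induction with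
      | mem c hc =>
        have h : expo (hΛ c hc).hom (Additive.toMul l₁).1 = expo (hΛ c hc).hom (Additive.toMul l₂).1 :=
          congrFun he ⟨c, hc⟩
        show (hΛ c hc).hom _ = (hΛ c hc).hom _
        rw [expo_spec ((hΛ c hc).exists_expo _) u, expo_spec ((hΛ c hc).exists_expo _) u, h]
      | zero => simp
      | add x y _ _ h₁ h₂ => rw [map_add, map_add, h₁, h₂]
      | smul r x _ h => rw [Algebra.smul_def, map_mul, map_mul, algebraMap_eq_cst, gv_cst, gv_cst, h]
    | algebraMap r => rw [algebraMap_eq_cst, gv_cst, gv_cst]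
    | add x y _ _ h₁ h₂ => rw [map_add, map_add, h₁, h₂]
    | mul x y _ _ h₁ h₂ => rw [map_mul, map_mul, h₁, h₂]
  apply Over.OverMorphism.ext
  apply ext_of_isAffine
  ext s
  exact (ConcreteCategory.bijective_of_isIso (Scheme.ΓSpecIso (CommRingCat.of k)).hom).1 (hval s)

/-- An additive function on one-parameter subgroups of a torus is bounded by a multiple of an inner product norm. -/
theorem exists_bound (hT : Red.IsTorus T)
    (b : (Red.Gm (St k) ⟶ T) → (Red.Gm (St k) ⟶ T) → ℚ)
    (hb_add : ∀ (l₁ l₂ l₃ : Red.Gm (St k) ⟶ T) [IsMonHom l₁] [IsMonHom l₂] [IsMonHom l₃],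
      b (l₁ * l₂) l₃ = b l₁ l₃ + b l₂ l₃)
    (hb_symm : ∀ (l₁ l₂ : Red.Gm (St k) ⟶ T) [IsMonHom l₁] [IsMonHom l₂], b l₁ l₂ = b l₂ l₁)
    (hb_pos : ∀ (l : Red.Gm (St k) ⟶ T) [IsMonHom l], l ≠ 1 → 0 < b l l)
    (ℓ : (Red.Gm (St k) ⟶ T) → ℚ)
    (hℓ : ∀ (l₁ l₂ : Red.Gm (St k) ⟶ T) [IsMonHom l₁] [IsMonHom l₂], ℓ (l₁ * l₂) = ℓ l₁ + ℓ l₂) :
    ∃ K : ℝ, 0 ≤ K ∧ ∀ (l : Red.Gm (St k) ⟶ T) [IsMonHom l], |(ℓ l : ℝ)| ≤ K * Real.sqrt ((b l l : ℚ) : ℝ) := by
  obtain ⟨_, _, _, _, hcm⟩ := AlgGrp33.IsogSub.torus_props hT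
  haveI := finite_cochar hT
  let v : Additive (cochar T) → (Red.Gm (St k) ⟶ T) := fun l => (Additive.toMul l).1
  have hv : ∀ l, IsMonHom (v l) := fun l => (Additive.toMul l).2
  obtain ⟨K, hK, h⟩ := exists_bound_sq_le (b := fun l l' : Additive (cochar T) => b (v l) (v l'))
    (fun x y z => @hb_add (v x) (v y) (v z) (hv x) (hv y) (hv z))
    (fun x y => @hb_symm (v x) (v y) (hv x) (hv y))
    (fun x hx => @hb_pos (v x) (hv x) fun e => hx (Additive.toMul.injective (Subtype.ext e)))
    (AddMonoidHom.mk' (fun l => ℓ (v l)) fun x y => @hℓ (v x) (v y) (hv x) (hv y))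
  exact ⟨K, hK, fun l hl => h (Additive.ofMul ⟨l, hl⟩)⟩

end Groth.Agent.GIT36.OnePS
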