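import Groth.Agent.AlgGrp79.ToriConj
import Groth.Agent.AlgGrp79.TorusBC
import Groth.Agent.GMod80.NoTorus

/-!
Every homomorphism of a torus into a connected group over an algebraically closed field is conjugate into a given
maximal torus.
-/

set_option autoImplicit false
set_option backward.isDefEq.respectTransparency.types false
set_option linter.style.haveILetI false

universe u

open CategoryTheory CategoryTheory.Limits MonoidalCategory CartesianMonoidalCategory MonObj GrpObj AlgebraicGeometry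

noncomputable section

namespace Groth.Agent.GIT36.OnePS

open Groth.Agent.AlgGrp79 Groth.Agent.AlgGrp79.ToriConj

variable {k : Type u} [Field k] [IsAlgClosed k]

local notation "St" => Spec (CommRingCat.of k)

/-- A maximal torus in the fibrewise sense is maximal among the subtori. -/
theorem isMaxTorus_of_isMaximalTorus {T G : Over St} [GrpObj T] [GrpObj G] {i : T ⟶ G} (hi : Red.IsMaximalTorus i) :
    AGF.IsMaxTorus i := by
  obtain ⟨h₁, h₂, h₃, hmax⟩ := hi
  refine ⟨h₁, h₂, h₃, fun T' _ j _ _ f hT' hf => ?_⟩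
  obtain ⟨s⟩ : Nonempty (PrimeSpectrum k) := inferInstance
  haveI := GMod80.isIso_geomPt (k := k) s
  let P := Over.pullback (Red.geomPt (S := St) s)
  haveI : Mono (P.map j) := inferInstance
  haveI : IsIso (P.map f) := hmax s (P.obj T') (P.map j) (P.map f) (TorusBC.isTorus_bc _ hT') (by
    rw [← Functor.map_comp, hf])
  have h : (P.map f).left ≫ pullback.fst T'.hom (Red.geomPt (S := St) s) =
      pullback.fst T.hom (Red.geomPt (S := St) s) ≫ f.left := pullback.lift_fst _ _ _
  haveI : IsIso (P.map f).left := inferInstanceAs (IsIso ((Over.forget _).map (P.map f)))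
  haveI : IsIso f.left := by
    have : IsIso (pullback.fst T.hom (Red.geomPt (S := St) s) ≫ f.left) := by rw [← h]; infer_instance
    exact IsIso.of_isIso_comp_left (pullback.fst T.hom (Red.geomPt (S := St) s)) f.left
  haveI : IsIso ((Over.forget _).map f) := ‹IsIso f.left›
  exact isIso_of_reflects_iso f (Over.forget _)

/-- Every homomorphism from a torus is conjugate into a maximal torus. -/
theorem exists_conj_into_maxTorus (G : Over St) [GrpObj G] [IsAffine G.left] [Smooth G.hom]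
    [ConnectedSpace G.left] {T S : Over St} [GrpObj T] [GrpObj S] {iT : T ⟶ G} (hT : AGF.IsMaxTorus iT)
    (hS : Red.IsTorus S) (iS : S ⟶ G) [IsMonHom iS] :
    ∃ (g : 𝟙_ (Over St) ⟶ G) (φ : S ⟶ T), IsMonHom φ ∧ AGF.conjBy g (φ ≫ iT) = iS := by
  obtain ⟨B, _, iB, _, _, _, _, hsB, X, a, o, hX, _⟩ := BorelConj.exists_solvable_proper G
  haveI : IsAffine B.left := isAffine_of_isAffineHom iB.left
  haveI : Mono iB := Over.mono_of_mono_left iB
  obtain ⟨T₀, _, j, _, _, hT₀, hconj⟩ := exists_maxTorus B hsB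
  have main : ∀ (S : Over St) [GrpObj S] (iS : S ⟶ G) [IsMonHom iS], Red.IsTorus S →
      ∃ (g : 𝟙_ (Over St) ⟶ G) (χ : S ⟶ T₀), χ ≫ AGF.conjBy g (j ≫ iB) = iS := by
    intro S _ iS _ hSt
    obtain ⟨_, _, _, _, hcm⟩ := AlgGrp33.IsogSub.torus_props hSt
    have hsolv : Red.IsSolvableGrp S := ⟨1, fun X => by
      rw [derivedSeries_one, commutator_eq_bot_iff_center_eq_top, eq_top_iff]
      intro x _
      rw [Subgroup.mem_center_iff]
      exact fun y => mul_comm y x⟩
    obtain ⟨g, φ, hφ⟩ := BorelConj.exists_conj_into iB hX hsolv iS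
    haveI := BorelConj.isMonHom_conjBy g iB
    haveI := BorelConj.isClosedImmersion_conjBy g iB
    haveI : Mono (AGF.conjBy g iB) := Over.mono_of_mono_left _
    haveI : IsMonHom φ := AlgGrp79.isMonHom_of_forall _ fun X s t => by
      rw [← cancel_mono (AGF.conjBy g iB), MonObj.mul_comp _ _ (AGF.conjBy g iB), Category.assoc, Category.assoc,
        Category.assoc, hφ, MonObj.mul_comp]
    obtain ⟨b, χ, hχ⟩ := hconj S hSt φ
    refine ⟨g * (b ≫ iB), χ, ?_⟩
    rw [← hφ, ← hχ, BorelConj.comp_conjBy, BorelConj.comp_conjBy, BorelConj.comp_conjBy]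
    show _ = AGF.conjBy g (((toUnit S ≫ b) * (χ ≫ j) * (toUnit S ≫ b)⁻¹) ≫ iB)
    rw [MonObj.mul_comp _ _ iB, MonObj.mul_comp _ _ iB, GrpObj.inv_comp, Category.assoc]
    show _ = AGF.conjBy g (AGF.conjBy (b ≫ iB) ((χ ≫ j) ≫ iB))
    rw [BorelConj.conjBy_conjBy, Category.assoc]
  obtain ⟨hTm, hTmono, hTt, hmax⟩ := hT
  obtain ⟨g₁, e, he⟩ := main T iT hTt
  obtain ⟨g₂, χ, hχ⟩ := main S iS hS
  haveI : IsClosedImmersion (j ≫ iB).left := inferInstanceAs (IsClosedImmersion (j.left ≫ iB.left))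
  haveI := BorelConj.isMonHom_conjBy g₁ (j ≫ iB)
  haveI := BorelConj.isClosedImmersion_conjBy g₁ (j ≫ iB)
  haveI : Mono (AGF.conjBy g₁ (j ≫ iB)) := Over.mono_of_mono_left _
  haveI := hmax T₀ (AGF.conjBy g₁ (j ≫ iB)) e hT₀ he
  have key : (χ ≫ inv e) ≫ iT = AGF.conjBy (g₁ * g₂⁻¹) iS := by
    rw [← he, ← hχ, Category.assoc, IsIso.inv_hom_id_assoc, BorelConj.comp_conjBy, BorelConj.comp_conjBy,
      BorelConj.conjBy_conjBy, inv_mul_cancel_right]
  haveI := BorelConj.isMonHom_conjBy (g₁ * g₂⁻¹) iS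
  refine ⟨g₂ * g₁⁻¹, χ ≫ inv e, AlgGrp79.isMonHom_of_forall _ fun X s t => ?_, ?_⟩
  · rw [← cancel_mono iT, MonObj.mul_comp _ _ iT]
    simp only [Category.assoc] at key ⊢
    rw [key, MonObj.mul_comp]
  · rw [key, BorelConj.conjBy_conjBy, show g₂ * g₁⁻¹ * (g₁ * g₂⁻¹) = 1 by group, BorelConj.conjBy_one]

end Groth.Agent.GIT36.OnePS
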